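import Groth.Agent.H5.Lift.Transport

/-!
# Restriction along an isomorphism of schemes is an equivalence

* `modEquiv φ : Y.Modules ≌ X.Modules` for `φ : X ≅ Y`, with functor `restrictFunctor φ.hom`.
* `derEquiv φ : D(Y) ≌ D(X)`, with functor `restrictD φ.hom`.
-/

set_option autoImplicit false
set_option linter.style.haveILetI false

universe u

open CategoryTheory Category Limits AlgebraicGeometry

namespace Groth.Agent.H5.KQ.IsoEquiv

open Scheme.Modules

variable {X Y : Scheme.{u}}

/-- `φ^* (φ⁻¹)^* ≅ 𝟭` on modules -/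
noncomputable def invHomIso (φ : X ≅ Y) :
    restrictFunctor φ.inv ⋙ restrictFunctor φ.hom ≅ 𝟭 X.Modules :=
  (restrictFunctorComp φ.hom φ.inv).symm ≪≫ restrictFunctorCongr φ.hom_inv_id ≪≫
    restrictFunctorId

/-- restriction along an isomorphism, as an equivalence of module categories -/
noncomputable def modEquiv (φ : X ≅ Y) : Y.Modules ≌ X.Modules :=
  CategoryTheory.Equivalence.mk (restrictFunctor φ.hom) (restrictFunctor φ.inv)
    (invHomIso φ.symm).symm (invHomIso φ)

@[simp] lemma modEquiv_functor (φ : X ≅ Y) : (modEquiv φ).functor = restrictFunctor φ.hom := rfl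

@[simp] lemma modEquiv_inverse (φ : X ≅ Y) : (modEquiv φ).inverse = restrictFunctor φ.inv := rfl

attribute [local instance] HasDerivedCategory.standard

/-- restriction along an isomorphism, as an equivalence of derived categories -/
noncomputable def derEquiv (φ : X ≅ Y) : DCoh.D Y ≌ DCoh.D X :=
  CategoryTheory.Equivalence.mk (DCoh.restrictD φ.hom) (DCoh.restrictD φ.inv)
    (Groth.Agent.H5.Lift.Transport.nonempty_inv_hom φ.symm).some.symm
    (Groth.Agent.H5.Lift.Transport.nonempty_inv_hom φ).some

instance full_restrictD (φ : X ≅ Y) : (DCoh.restrictD φ.hom).Full :=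
  (derEquiv φ).fullyFaithfulFunctor.full

instance faithful_restrictD (φ : X ≅ Y) : (DCoh.restrictD φ.hom).Faithful :=
  (derEquiv φ).fullyFaithfulFunctor.faithful

instance full_restrictFunctor (φ : X ≅ Y) : (restrictFunctor φ.hom).Full :=
  (modEquiv φ).fullyFaithfulFunctor.full

instance faithful_restrictFunctor (φ : X ≅ Y) : (restrictFunctor φ.hom).Faithful :=
  (modEquiv φ).fullyFaithfulFunctor.faithful

end Groth.Agent.H5.KQ.IsoEquiv
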