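import Groth.Agent.H5.KQ.IsoEquiv
import Groth.Agent.H5.DQ.Main
import Groth.Agent.H44.LocFree
import Groth.Agent.H47.TildeExact
import Groth.Agent.H33.Glue.MapDComp

/-!
# Homotopy classes versus derived-category morphisms on an affine scheme

`X` affine, `E` a bounded above complex of finite locally free modules, `F` a complex of
quasi-coherent modules: `Hom_{K(O_X)}(E, F) → Hom_{D(O_X)}(E, F)` is bijective.
-/

set_option autoImplicit false
set_option linter.style.haveILetI false

universe u v₁ v₂ v₃ v₄ u₁ u₂ u₃ u₄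

open CategoryTheory Category Limits AlgebraicGeometry

namespace Groth.Agent.H5.KQ.Main

section general

variable {K₁ : Type u₁} [Category.{v₁} K₁] {K₂ : Type u₂} [Category.{v₂} K₂]
  {D₁ : Type u₃} [Category.{v₃} D₁] {D₂ : Type u₄} [Category.{v₄} D₂]

/-- bijectivity on morphisms is invariant under isomorphisms of source and target -/
lemma bijective_map_of_iso (H : K₁ ⥤ D₁) {A A' B B' : K₁} (a : A' ≅ A) (b : B' ≅ B)
    (h : Function.Bijective (fun f : A' ⟶ B' => H.map f)) :
    Function.Bijective (fun f : A ⟶ B => H.map f) := by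
  constructor
  · intro f g hfg
    have h1 : H.map (a.hom ≫ f ≫ b.inv) = H.map (a.hom ≫ g ≫ b.inv) := by
      simp only [H.map_comp]
      rw [show H.map f = H.map g from hfg]
    have h2 := h.1 h1
    have h3 := congrArg (fun t => a.inv ≫ t ≫ b.hom) h2
    simpa using h3
  · intro g
    obtain ⟨f', hf'⟩ := h.2 (H.map a.hom ≫ g ≫ H.map b.inv)
    refine ⟨a.inv ≫ f' ≫ b.hom, ?_⟩
    change H.map (a.inv ≫ f' ≫ b.hom) = g
    have hf'' : H.map f' = H.map a.hom ≫ g ≫ H.map b.inv := hf'
    simp only [H.map_comp, hf'', Category.assoc]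
    rw [← H.map_comp, b.inv_hom_id, H.map_id, Category.comp_id, ← Category.assoc, ← H.map_comp,
      a.inv_hom_id, H.map_id, Category.id_comp]

/-- transfer of bijectivity through a commutative (up to isomorphism) square of functors -/
lemma bijective_map_of_square (A : K₁ ⥤ K₂) (Q₁ : K₁ ⥤ D₁) (Q₂ : K₂ ⥤ D₂) (B : D₁ ⥤ D₂)
    (e : A ⋙ Q₂ ≅ Q₁ ⋙ B) (x y : K₁)
    (hA : Function.Bijective (fun f : x ⟶ y => A.map f))
    (hQ : Function.Bijective (fun f : x ⟶ y => Q₁.map f))
    (hB : Function.Bijective (fun f : Q₁.obj x ⟶ Q₁.obj y => B.map f)) :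
    Function.Bijective (fun f : A.obj x ⟶ A.obj y => Q₂.map f) := by
  have hcomp : Function.Bijective (fun f : x ⟶ y => Q₂.map (A.map f)) := by
    have h1 : (fun f : x ⟶ y => Q₂.map (A.map f)) =
        (fun g : B.obj (Q₁.obj x) ⟶ B.obj (Q₁.obj y) => e.hom.app x ≫ g ≫ e.inv.app y) ∘
          (fun f : Q₁.obj x ⟶ Q₁.obj y => B.map f) ∘ (fun f : x ⟶ y => Q₁.map f) := by
      funext f
      have := e.hom.naturality f
      simp only [Functor.comp_map] at this
      simp only [Function.comp]
      rw [← Category.assoc, ← this, Category.assoc, ← NatTrans.comp_app, e.hom_inv_id]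
      simp
    rw [h1]
    refine Function.Bijective.comp ?_ (hB.comp hQ)
    constructor
    · intro g g' hgg'
      have h2 := congrArg (fun t => e.inv.app x ≫ t ≫ e.hom.app y) hgg'
      simpa using h2
    · intro g
      refine ⟨e.inv.app x ≫ g ≫ e.hom.app y, ?_⟩
      simp
  constructor
  · intro f g hfg
    obtain ⟨f', rfl⟩ := hA.2 f
    obtain ⟨g', rfl⟩ := hA.2 g
    rw [hcomp.1 hfg]
  · intro g
    obtain ⟨f, hf⟩ := hcomp.2 g
    exact ⟨A.map f, hf⟩

end general

section scheme

attribute [local instance] HasDerivedCategory.standard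

open Scheme.Modules Groth.Agent.H5.KQ.IsoEquiv

/-- global sections of a finite locally free module on `Spec R` form a projective module -/
lemma projective_Γ (R : CommRingCat.{u}) (L : (Spec R).Modules) (hL : FlatMod.IsFinLocFree L) :
    Module.Projective R ((moduleSpecΓFunctor (R := R)).obj L) := by
  haveI : L.IsQuasicoherent := Groth.Agent.H5.PerfectPull.isQuasicoherent_of_isFinLocFree L hL
  have h := (Groth.Agent.H44.finite_projective_of_isFinLocFree L hL (V := ⊤)
    (isAffineOpen_top (Spec R))).2
  let σ : Γ(Spec R, ⊤) →+* R := (Scheme.ΓSpecIso R).hom.hom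
  let σ' : R →+* Γ(Spec R, ⊤) := (Scheme.ΓSpecIso R).inv.hom
  haveI : RingHomInvPair σ σ' := ⟨by ext x; simp [σ, σ'], by ext x; simp [σ, σ']⟩
  haveI : RingHomInvPair σ' σ := ⟨by ext x; simp [σ, σ'], by ext x; simp [σ, σ']⟩
  let e : Γ(L, ⊤) ≃ₛₗ[σ] ((moduleSpecΓFunctor (R := R)).obj L) :=
    { toFun := fun x => x
      invFun := fun x => x
      map_add' := fun _ _ => rfl
      map_smul' := fun s x => by
        change _ = (Scheme.ΓSpecIso R).inv.hom ((Scheme.ΓSpecIso R).hom.hom s) • x
        rw [← CommRingCat.comp_apply, Iso.hom_inv_id]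
        rfl
      left_inv := fun _ => rfl
      right_inv := fun _ => rfl }
  exact Module.Projective.of_equiv e

variable (X : Scheme.{u}) [IsAffine X]

/-- the ring of global functions -/
noncomputable abbrev RX : CommRingCat.{u} := Γ(X, ⊤)

/-- `X ≅ Spec Γ(X, O_X)` -/
noncomputable abbrev φX : X ≅ Spec (RX X) := X.isoSpec

/-- `M ↦ M~`, transported to `X` -/
noncomputable abbrev GX : ModuleCat.{u} (RX X) ⥤ X.Modules :=
  tilde.functor (RX X) ⋙ restrictFunctor (φX X).hom

/-- global sections, as a functor to `Γ(X, O_X)`-modules -/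
noncomputable abbrev ΓX : X.Modules ⥤ ModuleCat.{u} (RX X) :=
  restrictFunctor (φX X).inv ⋙ moduleSpecΓFunctor (R := RX X)

/-- the tilde--Γ adjunction on `X` -/
noncomputable def adjX : GX X ⊣ ΓX X :=
  tilde.adjunction.comp (modEquiv (φX X)).toAdjunction

instance : (ΓX X).Additive := (adjX X).right_adjoint_additive

lemma isIso_counit (M : X.Modules) [M.IsQuasicoherent] : IsIso ((adjX X).counit.app M) := by
  haveI : ((restrictFunctor (φX X).inv).obj M).IsQuasicoherent := inferInstance
  have h1 : IsIso ((tilde.adjunction (R := RX X)).counit.app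
      ((restrictFunctor (φX X).inv).obj M)) :=
    Scheme.Modules.isIso_fromTildeΓ_of_isQuasicoherent ((restrictFunctor (φX X).inv).obj M)
  have h2 : IsIso ((modEquiv (φX X)).toAdjunction.counit.app M) :=
    (inferInstance : IsIso ((modEquiv (φX X)).counitIso.hom.app M))
  have h3 : IsIso ((restrictFunctor (φX X).hom).map ((tilde.adjunction (R := RX X)).counit.app
      ((restrictFunctor (φX X).inv).obj M))) := inferInstance
  have h : (adjX X).counit.app M =
      (restrictFunctor (φX X).hom).map ((tilde.adjunction (R := RX X)).counit.app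
        ((restrictFunctor (φX X).inv).obj M)) ≫ (modEquiv (φX X)).toAdjunction.counit.app M :=
    Adjunction.comp_counit_app (tilde.adjunction (R := RX X))
      (modEquiv (φX X)).toAdjunction M
  rw [h]
  exact @IsIso.comp_isIso _ _ _ _ _ _ _ h3 h2

/-- a complex of quasi-coherent modules is the tilde of its complex of global sections -/
noncomputable def cxIso (F : CochainComplex X.Modules ℤ)
    (hF : ∀ i : ℤ, (F.X i).IsQuasicoherent) :
    ((GX X).mapHomologicalComplex (ComplexShape.up ℤ)).obj
      (((ΓX X).mapHomologicalComplex (ComplexShape.up ℤ)).obj F) ≅ F :=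
  HomologicalComplex.Hom.isoOfComponents
    (fun i => haveI := hF i
      @asIso _ _ _ _ ((adjX X).counit.app (F.X i)) (isIso_counit X (F.X i)))
    (fun i j _ => ((adjX X).counit.naturality (F.d i j)).symm)

/-- the derived functor of `GX` is fully faithful -/
lemma full_faithful_GX [PreservesFiniteLimits (tilde.functor (RX X))] :
    (GX X).mapDerivedCategory.Full ∧ (GX X).mapDerivedCategory.Faithful := by
  obtain ⟨hfull, hfaith, -⟩ := Groth.Agent.H5.DQ.Main.main (RX X)
  let e : (tilde.functor (RX X)).mapDerivedCategory ⋙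
      (restrictFunctor (φX X).hom).mapDerivedCategory ≅ (GX X).mapDerivedCategory :=
    Groth.Agent.H33.Glue.mapDerivedCategoryCompIso (tilde.functor (RX X))
      (restrictFunctor (φX X).hom) (GX X) (Iso.refl _)
  haveI : (tilde.functor (RX X)).mapDerivedCategory.Full := hfull
  haveI : (tilde.functor (RX X)).mapDerivedCategory.Faithful := hfaith
  haveI : (restrictFunctor (φX X).hom).mapDerivedCategory.Full := full_restrictD (φX X)
  haveI : (restrictFunctor (φX X).hom).mapDerivedCategory.Faithful := faithful_restrictD (φX X)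
  exact ⟨Functor.Full.of_iso e, Functor.Faithful.of_iso e⟩

/-- **Homotopy classes of maps from a bounded above complex of finite locally free modules to a
complex of quasi-coherent modules on an affine scheme are the morphisms in `D(O_X)`.** -/
theorem main (E F : CochainComplex X.Modules ℤ) (b : ℤ) (hEb : ∀ i : ℤ, b < i → IsZero (E.X i))
    (hE : ∀ i : ℤ, FlatMod.IsFinLocFree (E.X i)) (hF : ∀ i : ℤ, (F.X i).IsQuasicoherent) :
    Function.Bijective (fun φ : (HomotopyCategory.quotient X.Modules (ComplexShape.up ℤ)).obj E ⟶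
        (HomotopyCategory.quotient X.Modules (ComplexShape.up ℤ)).obj F =>
      (DerivedCategory.Qh (C := X.Modules)).map φ) := by
  haveI := Groth.Agent.H47.tilde_preservesFiniteLimits (RX X)
  have hEq : ∀ i : ℤ, (E.X i).IsQuasicoherent := fun i =>
    Groth.Agent.H5.PerfectPull.isQuasicoherent_of_isFinLocFree _ (hE i)
  let P : CochainComplex (ModuleCat.{u} (RX X)) ℤ :=
    ((ΓX X).mapHomologicalComplex (ComplexShape.up ℤ)).obj E
  let N : CochainComplex (ModuleCat.{u} (RX X)) ℤ :=
    ((ΓX X).mapHomologicalComplex (ComplexShape.up ℤ)).obj F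
  refine bijective_map_of_iso (DerivedCategory.Qh (C := X.Modules))
    ((HomotopyCategory.quotient X.Modules (ComplexShape.up ℤ)).mapIso (cxIso X E hEq))
    ((HomotopyCategory.quotient X.Modules (ComplexShape.up ℤ)).mapIso (cxIso X F hF)) ?_
  haveI : CochainComplex.IsStrictlyLE P b := by
    rw [CochainComplex.isStrictlyLE_iff]
    exact fun i hi => (ΓX X).map_isZero (hEb i hi)
  haveI : ∀ i : ℤ, Projective (P.X i) := fun i =>
    (IsProjective.iff_projective (R := RX X) (P := P.X i)).mp
      (projective_Γ (RX X) _ (Groth.Agent.H33.Perf.isFinLocFree_restrict (φX X).inv _ (hE i)))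
  haveI : CochainComplex.IsKProjective P := CochainComplex.isKProjective_of_projective P b
  obtain ⟨hfull, hfaith⟩ := full_faithful_GX X
  refine bijective_map_of_square ((GX X).mapHomotopyCategory (ComplexShape.up ℤ))
    DerivedCategory.Qh DerivedCategory.Qh (GX X).mapDerivedCategory
    (GX X).mapDerivedCategoryFactorsh.symm
    ((HomotopyCategory.quotient _ (ComplexShape.up ℤ)).obj P)
    ((HomotopyCategory.quotient _ (ComplexShape.up ℤ)).obj N) ?_ ?_ ?_
  · exact ⟨((GX X).mapHomotopyCategory (ComplexShape.up ℤ)).map_injective,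
      ((GX X).mapHomotopyCategory (ComplexShape.up ℤ)).map_surjective⟩
  · exact CochainComplex.IsKProjective.Qh_map_bijective P _
  · exact ⟨(GX X).mapDerivedCategory.map_injective, (GX X).mapDerivedCategory.map_surjective⟩

end scheme

end Groth.Agent.H5.KQ.Main
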